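import Cfsg.Agent.Lib.TC.G.He
import Cfsg.Agent.Lib.TC.D.HeSp44.CT0
import Cfsg.Agent.Lib.TC.D.HeSp44.PT0

namespace Cfsg.Agent.Lib.TC.D.HeSp44.Tab

open Cfsg.Agent.Lib.TC.Core Cfsg.Agent.Lib.TC.Enc Cfsg.Agent.Lib.TC.Pres Cfsg.Agent.Lib.TC.Perm Cfsg.Agent.Lib.TC.Main

set_option maxRecDepth 100000

/-- The chunks of the certificate. -/
noncomputable def ctree : Tr Nat := Cfsg.Agent.Lib.TC.D.HeSp44.CT0.tree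

/-- The relator rotations. -/
noncomputable def rotT : Tr (List Nat) := (Tr.node (Tr.node (Tr.node (Tr.node (Tr.node (Tr.node (Tr.node (Tr.leaf []) (Tr.leaf [2,0,1,2,0,1,2,4,0,1])) (Tr.node (Tr.leaf [4,2,4,2]) (Tr.leaf [2,3,0,2,3,2,3,2,3,2,3]))) (Tr.node (Tr.node (Tr.leaf [5,0,5,0]) (Tr.leaf [2,3,2,3,2,3,2,3,2,3,0])) (Tr.node (Tr.leaf [6,5,6,5,6,5,6,5]) (Tr.leaf [6,2,3,5,6,2,3,5,6,2,3,5,6,2,3,5])))) (Tr.node (Tr.node (Tr.node (Tr.leaf [1,0,1,0,1,0,1,0]) (Tr.leaf [0,1,2,4,0,1,2,0,1,2])) (Tr.node (Tr.leaf [5,3,5,3,5,3]) (Tr.leaf [5,3,2,6,5,3,2,6,5,3,2,6,5,3,2,6]))) (Tr.node (Tr.node (Tr.leaf [4,1,4,1]) (Tr.leaf [2,3,2,3,2,3,0,2,3,2,3])) (Tr.node (Tr.leaf [6,4,5,6,5]) (Tr.leaf [6,2,3,5,6,2,3,5,6,2,3,5,6,2,3,5]))))) (Tr.node (Tr.node (Tr.node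 (Tr.node (Tr.leaf [3,3]) (Tr.leaf [1,2,0,1,2,4,0,1,2,0])) (Tr.node (Tr.leaf [6,2,6,2]) (Tr.leaf [0,2,3,2,3,2,3,2,3,2,3]))) (Tr.node (Tr.node (Tr.leaf [2,1,2,1,2,1]) (Tr.leaf [2,3,2,3,2,3,2,3,0,2,3])) (Tr.node (Tr.leaf [6,5,6,4,5]) (Tr.leaf [6,2,3,5,6,2,3,5,6,2,3,5,6,2,3,5])))) (Tr.node (Tr.node (Tr.node (Tr.leaf [3,0,3,0]) (Tr.leaf [2,4,0,1,2,0,1,2,0,1])) (Tr.node (Tr.leaf [5,4,5,4]) (Tr.leaf [2,6,5,3,2,6,5,3,2,6,5,3,2,6,5,3]))) (Tr.node (Tr.node (Tr.leaf [6,1,6,1]) (Tr.leaf [2,3,2,3,0,2,3,2,3,2,3])) (Tr.node (Tr.leaf [0,1,2,0,1,2,0,1,2,4]) (Tr.leaf [6,2,3,5,6,2,3,5,6,2,3,5,6,2,3,5])))))) (Tr.node (Tr.node (Tr.node (Tr.node (Tr.node (Tr.leaf [1,1]) (Tr.leaf [0,1,2,0,1,2,4,0,1,2])) (Tr.node (Tr.leaf [5,2,5,2]) (Tr.leaf [3,0,2,3,2,3,2,3,2,3,2])))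 (Tr.node (Tr.node (Tr.leaf [6,0,6,0]) (Tr.leaf [3,2,3,2,3,2,3,2,3,0,2])) (Tr.node (Tr.leaf [5,6,5,6,4]) (Tr.leaf [6,2,3,5,6,2,3,5,6,2,3,5,6,2,3,5])))) (Tr.node (Tr.node (Tr.node (Tr.leaf [2,0,2,0]) (Tr.leaf [1,2,4,0,1,2,0,1,2,0])) (Tr.node (Tr.leaf [6,3,6,3,6,3]) (Tr.leaf [3,2,6,5,3,2,6,5,3,2,6,5,3,2,6,5]))) (Tr.node (Tr.node (Tr.leaf [5,1,5,1]) (Tr.leaf [3,2,3,2,3,0,2,3,2,3,2])) (Tr.node (Tr.leaf [4,5,6,5,6]) (Tr.leaf [6,2,3,5,6,2,3,5,6,2,3,5,6,2,3,5]))))) (Tr.node (Tr.node (Tr.node (Tr.node (Tr.leaf [5,5]) (Tr.leaf [2,0,1,2,4,0,1,2,0,1])) (Tr.node (Tr.leaf [4,3,4,3,4,3]) (Tr.leaf [6,5,3,2,6,5,3,2,6,5,3,2,6,5,3,2]))) (Tr.node (Tr.node (Tr.leaf [3,1,3,1]) (Tr.leaf [3,2,3,2,3,2,3,0,2,3,2])) (Tr.node (Tr.leaf [5,6,4,5,6]) (Tr.leaf [6,2,3,5,6,2,3,5,6,2,3,5,6,2,3,5]))))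 (Tr.node (Tr.node (Tr.node (Tr.leaf [4,0,4,0]) (Tr.leaf [4,0,1,2,0,1,2,0,1,2])) (Tr.node (Tr.leaf [6,4,6,4]) (Tr.leaf [6,2,3,5,6,2,3,5,6,2,3,5,6,2,3,5]))) (Tr.node (Tr.node (Tr.leaf [3,2,3,2,3,2,3,2,3,2,3,2,3,2,3,2,3,2,3,2]) (Tr.leaf [3,2,3,0,2,3,2,3,2,3,2])) (Tr.node (Tr.leaf [1,2,0,1,2,0,1,2,4,0]) (Tr.leaf [6,2,3,5,6,2,3,5,6,2,3,5,6,2,3,5]))))))) (Tr.node (Tr.node (Tr.node (Tr.node (Tr.node (Tr.node (Tr.leaf [0,0]) (Tr.leaf [1,0,2,1,0,2,1,0,4,2])) (Tr.node (Tr.leaf [2,4,2,4]) (Tr.leaf [2,3,2,0,3,2,3,2,3,2,3]))) (Tr.node (Tr.node (Tr.leaf [0,5,0,5]) (Tr.leaf [0,3,2,3,2,3,2,3,2,3,2])) (Tr.node (Tr.leaf [5,6,5,6,5,6,5,6]) (Tr.leaf [6,2,3,5,6,2,3,5,6,2,3,5,6,2,3,5])))) (Tr.node (Tr.node (Tr.node (Tr.leaf [0,1,0,1,0,1,0,1]) (Tr.leaf [0,2,1,0,4,2,1,0,2,1]))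 (Tr.node (Tr.leaf [3,5,3,5,3,5]) (Tr.leaf [3,5,6,2,3,5,6,2,3,5,6,2,3,5,6,2]))) (Tr.node (Tr.node (Tr.leaf [1,4,1,4]) (Tr.leaf [2,3,2,3,2,3,2,0,3,2,3])) (Tr.node (Tr.leaf [6,5,4,6,5]) (Tr.leaf [6,2,3,5,6,2,3,5,6,2,3,5,6,2,3,5]))))) (Tr.node (Tr.node (Tr.node (Tr.node (Tr.leaf [4,4]) (Tr.leaf [2,1,0,2,1,0,4,2,1,0])) (Tr.node (Tr.leaf [2,6,2,6]) (Tr.leaf [2,0,3,2,3,2,3,2,3,2,3]))) (Tr.node (Tr.node (Tr.leaf [1,2,1,2,1,2]) (Tr.leaf [2,3,2,3,2,3,2,3,2,0,3])) (Tr.node (Tr.leaf [6,5,6,5,4]) (Tr.leaf [6,2,3,5,6,2,3,5,6,2,3,5,6,2,3,5])))) (Tr.node (Tr.node (Tr.node (Tr.leaf [0,3,0,3]) (Tr.leaf [1,0,4,2,1,0,2,1,0,2])) (Tr.node (Tr.leaf [4,5,4,5]) (Tr.leaf [6,2,3,5,6,2,3,5,6,2,3,5,6,2,3,5]))) (Tr.node (Tr.node (Tr.leaf [1,6,1,6]) (Tr.leaf [2,3,2,3,2,0,3,2,3,2,3]))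 (Tr.node (Tr.leaf [4,2,1,0,2,1,0,2,1,0]) (Tr.leaf [6,2,3,5,6,2,3,5,6,2,3,5,6,2,3,5])))))) (Tr.node (Tr.node (Tr.node (Tr.node (Tr.node (Tr.leaf [2,2]) (Tr.leaf [0,2,1,0,2,1,0,4,2,1])) (Tr.node (Tr.leaf [2,5,2,5]) (Tr.leaf [3,2,0,3,2,3,2,3,2,3,2]))) (Tr.node (Tr.node (Tr.leaf [0,6,0,6]) (Tr.leaf [3,2,3,2,3,2,3,2,3,2,0])) (Tr.node (Tr.leaf [4,6,5,6,5]) (Tr.leaf [6,2,3,5,6,2,3,5,6,2,3,5,6,2,3,5])))) (Tr.node (Tr.node (Tr.node (Tr.leaf [0,2,0,2]) (Tr.leaf [2,1,0,4,2,1,0,2,1,0])) (Tr.node (Tr.leaf [3,6,3,6,3,6]) (Tr.leaf [5,6,2,3,5,6,2,3,5,6,2,3,5,6,2,3]))) (Tr.node (Tr.node (Tr.leaf [1,5,1,5]) (Tr.leaf [3,2,3,2,3,2,0,3,2,3,2])) (Tr.node (Tr.leaf [5,4,6,5,6]) (Tr.leaf [6,2,3,5,6,2,3,5,6,2,3,5,6,2,3,5]))))) (Tr.node (Tr.node (Tr.node (Tr.node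 (Tr.leaf [6,6]) (Tr.leaf [1,0,2,1,0,4,2,1,0,2])) (Tr.node (Tr.leaf [3,4,3,4,3,4]) (Tr.leaf [2,3,5,6,2,3,5,6,2,3,5,6,2,3,5,6]))) (Tr.node (Tr.node (Tr.leaf [1,3,1,3]) (Tr.leaf [3,2,3,2,3,2,3,2,0,3,2])) (Tr.node (Tr.leaf [5,6,5,4,6]) (Tr.leaf [6,2,3,5,6,2,3,5,6,2,3,5,6,2,3,5])))) (Tr.node (Tr.node (Tr.node (Tr.leaf [0,4,0,4]) (Tr.leaf [0,4,2,1,0,2,1,0,2,1])) (Tr.node (Tr.leaf [4,6,4,6]) (Tr.leaf [6,2,3,5,6,2,3,5,6,2,3,5,6,2,3,5]))) (Tr.node (Tr.node (Tr.leaf [2,3,2,3,2,3,2,3,2,3,2,3,2,3,2,3,2,3,2,3]) (Tr.leaf [3,2,3,2,0,3,2,3,2,3,2])) (Tr.node (Tr.leaf [2,1,0,2,1,0,2,1,0,4]) (Tr.leaf [6,2,3,5,6,2,3,5,6,2,3,5,6,2,3,5]))))))))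

/-- The subgroup rotations. -/
noncomputable def srotT : Tr (List Nat × Nat × List Nat) := (Tr.node (Tr.node (Tr.node (Tr.node (Tr.node (Tr.node (Tr.leaf ([],0,[])) (Tr.leaf ([4,3,2,1,4,3,2,1,4,3,2,1,4,3,2,1,4,3,2,1,4,3,2],1,[4,3,2,1]))) (Tr.node (Tr.leaf ([4,3,2,1,4,3,2],1,[4,3,2,1,4,3,2,1,4,3,2,1,4,3,2,1,4,3,2,1])) (Tr.leaf ([4,3,2,1,4,3,2,1,4,3,2,1,4,3,2,1,4,3,2,1,4,3,2,1,4,3,2],1,[])))) (Tr.node (Tr.node (Tr.leaf ([1,0,1],0,[])) (Tr.leaf ([4,3,2,1,4,3,2,1,4,3,2,1,4,3,2,1,4,3,2,1,4,3,2,1,4,3,2],1,[]))) (Tr.node (Tr.leaf ([4,3,2,1,4,3,2,1,4,3,2,1,4,3,2],1,[4,3,2,1,4,3,2,1,4,3,2,1])) (Tr.leaf ([4,3,2,1,4,3,2,1,4,3,2,1,4,3,2,1,4,3,2,1,4,3,2,1,4,3,2],1,[]))))) (Tr.node (Tr.node (Tr.node (Tr.leaf ([],5,[])) (Tr.leaf ([4,3,2,1,4,3,2,1,4,3,2,1,4,3,2,1,4,3,2,1,4,3,2,1,4,3,2],1,[])))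 (Tr.node (Tr.leaf ([4,3,2,1,4,3,2,1,4,3,2],1,[4,3,2,1,4,3,2,1,4,3,2,1,4,3,2,1])) (Tr.leaf ([4,3,2,1,4,3,2,1,4,3,2,1,4,3,2,1,4,3,2,1,4,3,2,1,4,3,2],1,[])))) (Tr.node (Tr.node (Tr.leaf ([4,3,2],1,[4,3,2,1,4,3,2,1,4,3,2,1,4,3,2,1,4,3,2,1,4,3,2,1])) (Tr.leaf ([4,3,2,1,4,3,2,1,4,3,2,1,4,3,2,1,4,3,2,1,4,3,2,1,4,3,2],1,[]))) (Tr.node (Tr.leaf ([4,3,2,1,4,3,2,1,4,3,2,1,4,3,2,1,4,3,2],1,[4,3,2,1,4,3,2,1])) (Tr.leaf ([4,3,2,1,4,3,2,1,4,3,2,1,4,3,2,1,4,3,2,1,4,3,2,1,4,3,2],1,[])))))) (Tr.node (Tr.node (Tr.node (Tr.node (Tr.leaf ([],3,[])) (Tr.leaf ([4,3,2,1,4,3,2,1,4,3,2,1,4,3,2,1,4,3,2,1,4,3,2,1,4],3,[2,1]))) (Tr.node (Tr.leaf ([4,3,2,1,4,3,2,1,4],3,[2,1,4,3,2,1,4,3,2,1,4,3,2,1,4,3,2,1])) (Tr.leaf ([4,3,2,1,4,3,2,1,4,3,2,1,4,3,2,1,4,3,2,1,4,3,2,1,4,3,2],1,[]))))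 (Tr.node (Tr.node (Tr.leaf ([4],3,[2,1,4,3,2,1,4,3,2,1,4,3,2,1,4,3,2,1,4,3,2,1,4,3,2,1])) (Tr.leaf ([4,3,2,1,4,3,2,1,4,3,2,1,4,3,2,1,4,3,2,1,4,3,2,1,4,3,2],1,[]))) (Tr.node (Tr.leaf ([4,3,2,1,4,3,2,1,4,3,2,1,4,3,2,1,4],3,[2,1,4,3,2,1,4,3,2,1])) (Tr.leaf ([4,3,2,1,4,3,2,1,4,3,2,1,4,3,2,1,4,3,2,1,4,3,2,1,4,3,2],1,[]))))) (Tr.node (Tr.node (Tr.node (Tr.leaf ([1],0,[1,0])) (Tr.leaf ([4,3,2,1,4,3,2,1,4,3,2,1,4,3,2,1,4,3,2,1,4,3,2,1,4,3,2],1,[]))) (Tr.node (Tr.leaf ([4,3,2,1,4,3,2,1,4,3,2,1,4],3,[2,1,4,3,2,1,4,3,2,1,4,3,2,1])) (Tr.leaf ([4,3,2,1,4,3,2,1,4,3,2,1,4,3,2,1,4,3,2,1,4,3,2,1,4,3,2],1,[])))) (Tr.node (Tr.node (Tr.leaf ([4,3,2,1,4],3,[2,1,4,3,2,1,4,3,2,1,4,3,2,1,4,3,2,1,4,3,2,1])) (Tr.leaf ([4,3,2,1,4,3,2,1,4,3,2,1,4,3,2,1,4,3,2,1,4,3,2,1,4,3,2],1,[])))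 (Tr.node (Tr.leaf ([4,3,2,1,4,3,2,1,4,3,2,1,4,3,2,1,4,3,2,1,4],3,[2,1,4,3,2,1])) (Tr.leaf ([4,3,2,1,4,3,2,1,4,3,2,1,4,3,2,1,4,3,2,1,4,3,2,1,4,3,2],1,[]))))))) (Tr.node (Tr.node (Tr.node (Tr.node (Tr.node (Tr.leaf ([],2,[])) (Tr.leaf ([4,3,2,1,4,3,2,1,4,3,2,1,4,3,2,1,4,3,2,1,4,3,2,1],4,[3,2,1]))) (Tr.node (Tr.leaf ([4,3,2,1,4,3,2,1],4,[3,2,1,4,3,2,1,4,3,2,1,4,3,2,1,4,3,2,1])) (Tr.leaf ([4,3,2,1,4,3,2,1,4,3,2,1,4,3,2,1,4,3,2,1,4,3,2,1,4,3,2],1,[])))) (Tr.node (Tr.node (Tr.leaf ([],4,[3,2,1,4,3,2,1,4,3,2,1,4,3,2,1,4,3,2,1,4,3,2,1,4,3,2,1])) (Tr.leaf ([4,3,2,1,4,3,2,1,4,3,2,1,4,3,2,1,4,3,2,1,4,3,2,1,4,3,2],1,[]))) (Tr.node (Tr.leaf ([4,3,2,1,4,3,2,1,4,3,2,1,4,3,2,1],4,[3,2,1,4,3,2,1,4,3,2,1])) (Tr.leaf ([4,3,2,1,4,3,2,1,4,3,2,1,4,3,2,1,4,3,2,1,4,3,2,1,4,3,2],1,[])))))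 (Tr.node (Tr.node (Tr.node (Tr.leaf ([],1,[0,1,0])) (Tr.leaf ([4,3,2,1,4,3,2,1,4,3,2,1,4,3,2,1,4,3,2,1,4,3,2,1,4,3,2],1,[]))) (Tr.node (Tr.leaf ([4,3,2,1,4,3,2,1,4,3,2,1],4,[3,2,1,4,3,2,1,4,3,2,1,4,3,2,1])) (Tr.leaf ([4,3,2,1,4,3,2,1,4,3,2,1,4,3,2,1,4,3,2,1,4,3,2,1,4,3,2],1,[])))) (Tr.node (Tr.node (Tr.leaf ([4,3,2,1],4,[3,2,1,4,3,2,1,4,3,2,1,4,3,2,1,4,3,2,1,4,3,2,1])) (Tr.leaf ([4,3,2,1,4,3,2,1,4,3,2,1,4,3,2,1,4,3,2,1,4,3,2,1,4,3,2],1,[]))) (Tr.node (Tr.leaf ([4,3,2,1,4,3,2,1,4,3,2,1,4,3,2,1,4,3,2,1],4,[3,2,1,4,3,2,1])) (Tr.leaf ([4,3,2,1,4,3,2,1,4,3,2,1,4,3,2,1,4,3,2,1,4,3,2,1,4,3,2],1,[])))))) (Tr.node (Tr.node (Tr.node (Tr.node (Tr.leaf ([],4,[])) (Tr.leaf ([4,3,2,1,4,3,2,1,4,3,2,1,4,3,2,1,4,3,2,1,4,3,2,1,4,3],2,[1]))) (Tr.node (Tr.leaf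 ([4,3,2,1,4,3,2,1,4,3],2,[1,4,3,2,1,4,3,2,1,4,3,2,1,4,3,2,1])) (Tr.leaf ([4,3,2,1,4,3,2,1,4,3,2,1,4,3,2,1,4,3,2,1,4,3,2,1,4,3,2],1,[])))) (Tr.node (Tr.node (Tr.leaf ([4,3],2,[1,4,3,2,1,4,3,2,1,4,3,2,1,4,3,2,1,4,3,2,1,4,3,2,1])) (Tr.leaf ([4,3,2,1,4,3,2,1,4,3,2,1,4,3,2,1,4,3,2,1,4,3,2,1,4,3,2],1,[]))) (Tr.node (Tr.leaf ([4,3,2,1,4,3,2,1,4,3,2,1,4,3,2,1,4,3],2,[1,4,3,2,1,4,3,2,1])) (Tr.leaf ([4,3,2,1,4,3,2,1,4,3,2,1,4,3,2,1,4,3,2,1,4,3,2,1,4,3,2],1,[]))))) (Tr.node (Tr.node (Tr.node (Tr.leaf ([1,0],1,[0])) (Tr.leaf ([4,3,2,1,4,3,2,1,4,3,2,1,4,3,2,1,4,3,2,1,4,3,2,1,4,3,2],1,[]))) (Tr.node (Tr.leaf ([4,3,2,1,4,3,2,1,4,3,2,1,4,3],2,[1,4,3,2,1,4,3,2,1,4,3,2,1])) (Tr.leaf ([4,3,2,1,4,3,2,1,4,3,2,1,4,3,2,1,4,3,2,1,4,3,2,1,4,3,2],1,[])))) (Tr.node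 (Tr.node (Tr.leaf ([4,3,2,1,4,3],2,[1,4,3,2,1,4,3,2,1,4,3,2,1,4,3,2,1,4,3,2,1])) (Tr.leaf ([4,3,2,1,4,3,2,1,4,3,2,1,4,3,2,1,4,3,2,1,4,3,2,1,4,3,2],1,[]))) (Tr.node (Tr.leaf ([4,3,2,1,4,3,2,1,4,3,2,1,4,3,2,1,4,3,2,1,4,3],2,[1,4,3,2,1])) (Tr.leaf ([4,3,2,1,4,3,2,1,4,3,2,1,4,3,2,1,4,3,2,1,4,3,2,1,4,3,2],1,[]))))))))

/-- The certificate. -/
noncomputable def cert : Cert :=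
  mkCert 7 6032 31850 5 110 147 4 15 360 41 287 344 2199023255551 144115188075855871 15 13 32767 8191 28 26 7 ctree.get rotT.get srotT.get

/-- The chunks of the table. -/
noncomputable def ptree : Tr Nat := Cfsg.Agent.Lib.TC.D.HeSp44.PT0.tree

/-- The table. -/
noncomputable def pt : PT :=
  mkPT 2058 7 5 31 9 12 4095 ptree.get Cfsg.Agent.Lib.TC.G.He.invF

/-- The witnesses of the rotations. -/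
noncomputable def witT : Tr (Nat × Nat × Bool) := (Tr.node (Tr.node (Tr.node (Tr.node (Tr.node (Tr.node (Tr.node (Tr.leaf (0,0,false)) (Tr.leaf (29,2,false))) (Tr.node (Tr.leaf (15,0,false)) (Tr.leaf (30,8,false)))) (Tr.node (Tr.node (Tr.leaf (5,0,false)) (Tr.leaf (30,0,false))) (Tr.node (Tr.leaf (26,0,false)) (Tr.leaf (31,3,true))))) (Tr.node (Tr.node (Tr.node (Tr.leaf (1,0,false)) (Tr.leaf (29,6,false))) (Tr.node (Tr.leaf (20,0,false)) (Tr.leaf (31,1,false)))) (Tr.node (Tr.node (Tr.leaf (10,0,false)) (Tr.leaf (30,4,false))) (Tr.node (Tr.leaf (28,3,false)) (Tr.leaf (31,3,true)))))) (Tr.node (Tr.node (Tr.node (Tr.node (Tr.leaf (18,0,false)) (Tr.leaf (29,4,false))) (Tr.node (Tr.leaf (17,0,false)) (Tr.leaf (30,10,false)))) (Tr.node (Tr.node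 (Tr.leaf (8,0,false)) (Tr.leaf (30,2,false))) (Tr.node (Tr.leaf (28,1,false)) (Tr.leaf (31,3,true))))) (Tr.node (Tr.node (Tr.node (Tr.leaf (3,0,false)) (Tr.leaf (29,8,false))) (Tr.node (Tr.leaf (23,0,false)) (Tr.leaf (31,3,false)))) (Tr.node (Tr.node (Tr.leaf (12,0,false)) (Tr.leaf (30,6,false))) (Tr.node (Tr.leaf (29,0,false)) (Tr.leaf (31,3,true))))))) (Tr.node (Tr.node (Tr.node (Tr.node (Tr.node (Tr.leaf (7,0,false)) (Tr.leaf (29,3,false))) (Tr.node (Tr.leaf (16,0,false)) (Tr.leaf (30,9,false)))) (Tr.node (Tr.node (Tr.leaf (6,0,false)) (Tr.leaf (30,1,false))) (Tr.node (Tr.leaf (28,0,false)) (Tr.leaf (31,3,true))))) (Tr.node (Tr.node (Tr.node (Tr.leaf (2,0,false)) (Tr.leaf (29,7,false))) (Tr.node (Tr.leaf (21,0,false)) (Tr.leaf (31,2,false))))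 (Tr.node (Tr.node (Tr.leaf (11,0,false)) (Tr.leaf (30,5,false))) (Tr.node (Tr.leaf (28,4,false)) (Tr.leaf (31,3,true)))))) (Tr.node (Tr.node (Tr.node (Tr.node (Tr.leaf (25,0,false)) (Tr.leaf (29,5,false))) (Tr.node (Tr.leaf (19,0,false)) (Tr.leaf (31,0,false)))) (Tr.node (Tr.node (Tr.leaf (9,0,false)) (Tr.leaf (30,3,false))) (Tr.node (Tr.leaf (28,2,false)) (Tr.leaf (31,3,true))))) (Tr.node (Tr.node (Tr.node (Tr.leaf (4,0,false)) (Tr.leaf (29,9,false))) (Tr.node (Tr.leaf (24,0,false)) (Tr.leaf (31,3,true)))) (Tr.node (Tr.node (Tr.leaf (14,0,false)) (Tr.leaf (30,7,false))) (Tr.node (Tr.leaf (29,1,false)) (Tr.leaf (31,3,true)))))))) (Tr.node (Tr.node (Tr.node (Tr.node (Tr.node (Tr.node (Tr.leaf (0,0,false)) (Tr.leaf (29,2,true))) (Tr.node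 (Tr.leaf (15,1,false)) (Tr.leaf (30,8,true)))) (Tr.node (Tr.node (Tr.leaf (5,1,false)) (Tr.leaf (30,0,true))) (Tr.node (Tr.leaf (26,1,false)) (Tr.leaf (31,3,true))))) (Tr.node (Tr.node (Tr.node (Tr.leaf (1,1,false)) (Tr.leaf (29,6,true))) (Tr.node (Tr.leaf (20,1,false)) (Tr.leaf (31,1,true)))) (Tr.node (Tr.node (Tr.leaf (10,1,false)) (Tr.leaf (30,4,true))) (Tr.node (Tr.leaf (28,3,true)) (Tr.leaf (31,3,true)))))) (Tr.node (Tr.node (Tr.node (Tr.node (Tr.leaf (22,0,false)) (Tr.leaf (29,4,true))) (Tr.node (Tr.leaf (17,1,false)) (Tr.leaf (30,10,true)))) (Tr.node (Tr.node (Tr.leaf (8,1,false)) (Tr.leaf (30,2,true))) (Tr.node (Tr.leaf (28,1,true)) (Tr.leaf (31,3,true))))) (Tr.node (Tr.node (Tr.node (Tr.leaf (3,1,false)) (Tr.leaf (29,8,true)))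 (Tr.node (Tr.leaf (23,1,false)) (Tr.leaf (31,3,true)))) (Tr.node (Tr.node (Tr.leaf (12,1,false)) (Tr.leaf (30,6,true))) (Tr.node (Tr.leaf (29,0,true)) (Tr.leaf (31,3,true))))))) (Tr.node (Tr.node (Tr.node (Tr.node (Tr.node (Tr.leaf (13,0,false)) (Tr.leaf (29,3,true))) (Tr.node (Tr.leaf (16,1,false)) (Tr.leaf (30,9,true)))) (Tr.node (Tr.node (Tr.leaf (6,1,false)) (Tr.leaf (30,1,true))) (Tr.node (Tr.leaf (28,0,true)) (Tr.leaf (31,3,true))))) (Tr.node (Tr.node (Tr.node (Tr.leaf (2,1,false)) (Tr.leaf (29,7,true))) (Tr.node (Tr.leaf (21,1,false)) (Tr.leaf (31,2,true)))) (Tr.node (Tr.node (Tr.leaf (11,1,false)) (Tr.leaf (30,5,true))) (Tr.node (Tr.leaf (28,4,true)) (Tr.leaf (31,3,true)))))) (Tr.node (Tr.node (Tr.node (Tr.node (Tr.leaf (27,0,false))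 (Tr.leaf (29,5,true))) (Tr.node (Tr.leaf (19,1,false)) (Tr.leaf (31,0,true)))) (Tr.node (Tr.node (Tr.leaf (9,1,false)) (Tr.leaf (30,3,true))) (Tr.node (Tr.leaf (28,2,true)) (Tr.leaf (31,3,true))))) (Tr.node (Tr.node (Tr.node (Tr.leaf (4,1,false)) (Tr.leaf (29,9,true))) (Tr.node (Tr.leaf (24,1,false)) (Tr.leaf (31,3,true)))) (Tr.node (Tr.node (Tr.leaf (14,1,false)) (Tr.leaf (30,7,true))) (Tr.node (Tr.leaf (29,1,true)) (Tr.leaf (31,3,true)))))))))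

/-- The words of the subgroup. -/
def subW : List (List (Cfsg.Spor.He.Gen × Bool)) :=
  [[(Cfsg.Spor.He.Gen.a,true)],
   [(Cfsg.Spor.He.Gen.c,true)],
   [(Cfsg.Spor.He.Gen.d,true)],
   [(Cfsg.Spor.He.Gen.e,true)],
   [(Cfsg.Spor.He.Gen.f,true)],
   [(Cfsg.Spor.He.Gen.a,true),(Cfsg.Spor.He.Gen.b,true),(Cfsg.Spor.He.Gen.a,true),(Cfsg.Spor.He.Gen.b,true)],
   [(Cfsg.Spor.He.Gen.b,true),(Cfsg.Spor.He.Gen.c,true),(Cfsg.Spor.He.Gen.d,true),(Cfsg.Spor.He.Gen.e,true),(Cfsg.Spor.He.Gen.b,true),(Cfsg.Spor.He.Gen.c,true),(Cfsg.Spor.He.Gen.d,true),(Cfsg.Spor.He.Gen.e,true),(Cfsg.Spor.He.Gen.b,true),(Cfsg.Spor.He.Gen.c,true),(Cfsg.Spor.He.Gen.d,true),(Cfsg.Spor.He.Gen.e,true),(Cfsg.Spor.He.Gen.b,true),(Cfsg.Spor.He.Gen.c,true),(Cfsg.Spor.He.Gen.d,true),(Cfsg.Spor.He.Gen.e,true),(Cfsg.Spor.He.Gen.b,true),(Cfsg.Spor.He.Gen.c,true),(Cfsg.Spor.He.Gen.d,true),(Cfsg.Spor.He.Gen.e,true),(Cfsg.Spor.He.Gen.b,true),(Cfsg.Spor.He.Gen.c,true),(Cfsg.Spor.He.Gen.d,true),(Cfsg.Spor.He.Gen.e,true),(Cfsg.Spor.He.Gen.b,true),(Cfsg.Spor.He.Gen.c,true),(Cfsg.Spor.He.Gen.d,true),(Cfsg.Spor.He.Gen.e,true)]]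

/-- The words of the subgroup, as columns. -/
def subs : List (List Nat) :=
  [[0],[2],[3],[4],[5],[1,0,1,0],[4,3,2,1,4,3,2,1,4,3,2,1,4,3,2,1,4,3,2,1,4,3,2,1,4,3,2,1]]


end Cfsg.Agent.Lib.TC.D.HeSp44.Tab
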